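import Groth.Agent.Lib.InjMod.Matlis
import Mathlib.LinearAlgebra.Dimension.Free
import Mathlib.LinearAlgebra.DirectSum.Finsupp

/-!
# Torsion modules with derivations are sums of injective hulls of the residue field
-/

set_option autoImplicit false
universe u

namespace GrothLib.Kashiwara

variable {A : Type u} [CommRing A] {d : ℕ} (t : Fin d → A) (𝔞 : Ideal A)

/-- Killed by `𝔞^n`. -/
def K {M : Type u} [AddCommGroup M] [Module A M] (n : ℕ) (x : M) : Prop := ∀ a ∈ 𝔞 ^ n, a • x = 0

variable {M : Type u} [AddCommGroup M] [Module A M]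

theorem K_sub {n : ℕ} {x y : M} (hx : K 𝔞 n x) (hy : K 𝔞 n y) : K 𝔞 n (x - y) := fun a ha => by
  rw [smul_sub, hx a ha, hy a ha, sub_self]

theorem K_smul {n : ℕ} (c : A) {x : M} (hx : K 𝔞 n x) : K 𝔞 n (c • x) := fun a ha => by
  rw [smul_comm, hx a ha, smul_zero]

theorem K_zero_iff {x : M} : K 𝔞 0 x ↔ x = 0 := by
  refine ⟨fun h => ?_, fun h a _ => by rw [h, smul_zero]⟩
  simpa using h 1 (by simp)

theorem K_map_iff {N : Type u} [AddCommGroup N] [Module A N] {φ : M →ₗ[A] N} (hφ : Function.Injective φ)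
    {n : ℕ} {x : M} : K 𝔞 n (φ x) ↔ K 𝔞 n x := by
  refine forall₂_congr fun a _ => ?_
  rw [← map_smul]
  exact map_eq_zero_iff φ hφ

variable {t 𝔞} (h𝔞 : 𝔞 = Ideal.span (Set.range t))

include h𝔞 in
theorem K_succ_iff {n : ℕ} {x : M} : K 𝔞 (n + 1) x ↔ ∀ j, K 𝔞 n (t j • x) := by
  constructor
  · intro h j a ha
    rw [smul_smul]
    exact h _ (by rw [pow_succ]; exact Ideal.mul_mem_mul ha (h𝔞 ▸ Ideal.subset_span ⟨j, rfl⟩))
  · intro h a ha
    rw [pow_succ] at ha
    induction ha using Submodule.mul_induction_on' with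
    | mem_mul_mem b hb c hc =>
      rw [h𝔞] at hc
      obtain ⟨v, rfl⟩ := (Ideal.mem_span_range_iff_exists_fun).1 hc
      rw [Finset.mul_sum, Finset.sum_smul]
      refine Finset.sum_eq_zero fun j _ => ?_
      rw [← mul_assoc, mul_comm b, mul_assoc, mul_smul, mul_smul, h j b hb, smul_zero]
    | add b _ c _ hb hc => rw [add_smul, hb, hc, add_zero]

variable (D : Fin d → M →+ M) (hD : ∀ i j (z : M), D i (t j • z) = (if i = j then z else 0) + t j • D i z)

/-- The Euler operator. -/
noncomputable def euler (y : M) : M := ∑ i, t i • D i y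

include hD in
theorem tD (i j : Fin d) (y : M) : t j • D i y = D i (t j • y) - if i = j then y else 0 := by
  rw [hD, add_sub_cancel_left]

include hD in
theorem smul_euler (j : Fin d) (y : M) : t j • euler (t := t) D y = euler (t := t) D (t j • y) - t j • y := by
  have h1 : ∀ i, t j • t i • D i y = t i • D i (t j • y) - if i = j then t j • y else 0 := fun i => by
    rw [smul_comm (t j) (t i), tD D hD, smul_sub]
    split_ifs with h
    · rw [h]
    · rw [smul_zero]
  rw [euler, euler, Finset.smul_sum, Finset.sum_congr rfl (fun i _ => h1 i), Finset.sum_sub_distrib,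
    Finset.sum_ite_eq' Finset.univ j (fun _ => t j • y), if_pos (Finset.mem_univ j)]

include hD h𝔞 in
theorem K_euler : ∀ (n : ℕ) (y : M), K 𝔞 (n + 1) y → K 𝔞 n (euler (t := t) D y + ((n + d : ℕ) : A) • y)
  | 0, y, hy => by
    have h0 : ∀ j, t j • y = 0 := fun j => (K_zero_iff 𝔞).1 ((K_succ_iff h𝔞).1 hy j)
    rw [K_zero_iff, euler, zero_add]
    simp only [tD D hD, h0, map_zero, if_pos rfl, ite_true, zero_sub]
    rw [Finset.sum_neg_distrib, Finset.sum_const, Finset.card_univ, Fintype.card_fin, ← Nat.cast_smul_eq_nsmul A,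
      neg_add_cancel]
  | n + 1, y, hy => by
    refine (K_succ_iff h𝔞).2 fun j => ?_
    have := K_euler n (t j • y) ((K_succ_iff h𝔞).1 hy j)
    rw [smul_add, smul_euler D hD, smul_comm (t j) ((n + 1 + d : ℕ) : A)]
    rw [show ((n + 1 + d : ℕ) : A) = ((n + d : ℕ) : A) + 1 by push_cast; ring, add_smul, one_smul]
    convert this using 1
    abel

variable {F : Type u} [AddCommGroup F] [Module A F] {φ : M →ₗ[A] F}

include hD h𝔞 in
theorem surjective_of_socle (hφ : Function.Injective φ) (hsoc : ∀ e : F, K 𝔞 1 e → ∃ m, φ m = e)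
    (hF : ∀ e : F, ∃ n, K 𝔞 n e) (hu : ∀ n : ℕ, IsUnit ((n + 1 : ℕ) : A)) : Function.Surjective φ := by
  suffices ∀ (n : ℕ) (e : F), K 𝔞 n e → ∃ m, φ m = e from fun e => let ⟨n, hn⟩ := hF e; this n e hn
  intro n
  induction n with
  | zero => exact fun e he => ⟨0, by rw [map_zero, (K_zero_iff 𝔞).1 he]⟩
  | succ n ih =>
    intro e he
    rcases n with _ | n
    · exact hsoc e he
    choose m hm using fun j => ih (t j • e) ((K_succ_iff h𝔞).1 he j)
    have hsym : ∀ i j, t j • m i = t i • m j := fun i j => hφ (by rw [map_smul, map_smul, hm, hm, smul_comm])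
    let z := ∑ i, D i (m i)
    let c : A := ((n + 1 : ℕ) : A)
    have hz : ∀ j, t j • z = euler (t := t) D (m j) + ((n + d : ℕ) : A) • m j - c • m j := fun j => by
      calc t j • z = ∑ i, (D i (t i • m j) - if i = j then m i else 0) := by
            rw [Finset.smul_sum]
            exact Finset.sum_congr rfl fun i _ => by rw [tD D hD, hsym]
        _ = (∑ i, (m j + t i • D i (m j))) - m j := by
            rw [Finset.sum_sub_distrib, Finset.sum_ite_eq' Finset.univ j m, if_pos (Finset.mem_univ j)]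
            congr 1
            exact Finset.sum_congr rfl fun i _ => by rw [hD, if_pos rfl]
        _ = _ := by
            rw [Finset.sum_add_distrib, Finset.sum_const, Finset.card_univ, Fintype.card_fin,
              ← Nat.cast_smul_eq_nsmul A, euler, show c = (n : A) + 1 by simp [c],
              show ((n + d : ℕ) : A) = (n : A) + (d : A) by simp, add_smul, add_smul, one_smul]
            abel
    obtain ⟨u, huu⟩ := hu n
    let e' := e + φ ((↑u⁻¹ : A) • z)
    have he' : K 𝔞 (n + 1) e' := (K_succ_iff h𝔞).2 fun j => by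
      have hmj : K 𝔞 (n + 1) (m j) := (K_map_iff 𝔞 hφ).1 (by rw [hm]; exact (K_succ_iff h𝔞).1 he j)
      have h1 : t j • e' = φ ((↑u⁻¹ : A) • (euler (t := t) D (m j) + ((n + d : ℕ) : A) • m j)) := by
        show t j • (e + φ ((↑u⁻¹ : A) • z)) = _
        rw [smul_add, ← hm j, ← map_smul φ (t j), ← map_add, smul_comm (t j), hz, smul_sub _ _ (c • m j),
          smul_smul _ c, show c = ↑u from huu.symm, Units.inv_mul, one_smul, add_sub_cancel]
      rw [h1, K_map_iff 𝔞 hφ]
      exact K_smul 𝔞 _ (K_euler h𝔞 D hD n (m j) hmj)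
    obtain ⟨m', hm'⟩ := ih e' he'
    exact ⟨m' - (↑u⁻¹ : A) • z, by rw [map_sub, hm', add_sub_cancel_right]⟩

include hD in
/-- The structure theorem. -/
theorem exists_equiv [IsLocalRing A] [IsNoetherianRing A]
    (ht : IsLocalRing.maximalIdeal A = Ideal.span (Set.range t)) (hu : ∀ n : ℕ, IsUnit ((n + 1 : ℕ) : A))
    {E : Type u} [AddCommGroup E] [Module A E] {e : (A ⧸ IsLocalRing.maximalIdeal A) →ₗ[A] E}
    (he : InjHull.IsInjectiveHull e) (hM : LocCoh.IsPowerTorsion (IsLocalRing.maximalIdeal A) M) :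
    ∃ J : Type u, Nonempty (M ≃ₗ[A] (J →₀ E)) := by
  classical
  let 𝔪 := IsLocalRing.maximalIdeal A
  let V := LocCoh.torsionBy 𝔪 M
  letI : Module (A ⧸ 𝔪) V := Module.IsTorsionBySet.module (Submodule.torsionBySet_isTorsionBySet (R := A) (M := M) 𝔪)
  letI : Field (A ⧸ 𝔪) := Ideal.Quotient.field 𝔪
  let J := Module.Free.ChooseBasisIndex (A ⧸ 𝔪) V
  let b : V ≃ₗ[A] (J →₀ (A ⧸ 𝔪)) := (Module.Free.chooseBasis (A ⧸ 𝔪) V).repr.restrictScalars A
  let s : V →ₗ[A] (J →₀ E) := (Finsupp.mapRange.linearMap e).comp b.toLinearMap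
  have hs : Function.Injective s :=
    (Finsupp.mapRange_injective _ (map_zero e) he.injective).comp b.injective
  have hinj : Module.Injective A (J →₀ E) := by
    have h := GrothLib.InjMod.injective_directSum (fun _ : J => E) (fun _ => he.isInjective)
    exact (Module.Baer.of_equiv (finsuppLEquivDirectSum A E J).symm h).injective
  obtain ⟨φ, hφ⟩ := hinj.out V.subtype V.injective_subtype s
  have hφi : Function.Injective φ := GrothLib.Matlis.injective_of_socle hM φ fun x hx h0 => by
    have h1 : s ⟨x, hx⟩ = s 0 := by rw [map_zero, ← h0]; exact (hφ ⟨x, hx⟩).symm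
    exact congrArg Subtype.val (hs h1)
  refine ⟨J, ⟨LinearEquiv.ofBijective φ ⟨hφi, surjective_of_socle ht D hD hφi (fun x hx => ?_) (fun x => ?_) hu⟩⟩⟩
  · have hx' : ∀ j, x j ∈ LinearMap.range e := fun j => by
      refine (GrothLib.Matlis.torsionBy_eq_range he.toIsEssentialInj).le ?_
      exact (Submodule.mem_torsionBySet_iff _ _).2 fun a => by
        rw [← Finsupp.smul_apply, hx (a : A) (by rw [pow_one]; exact a.2), Finsupp.zero_apply]
    choose y hy using hx'
    let Y : J →₀ (A ⧸ 𝔪) := Finsupp.onFinset x.support y fun j hj => Finsupp.mem_support_iff.2 fun h0 =>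
      hj (he.injective (by rw [hy, h0, map_zero]))
    refine ⟨(b.symm Y : V), (hφ (b.symm Y)).trans (Finsupp.ext fun j => ?_)⟩
    show (Finsupp.mapRange.linearMap e (b (b.symm Y))) j = x j
    rw [b.apply_symm_apply]
    exact hy j
  · induction x using Finsupp.induction_linear with
    | zero => exact ⟨0, fun a _ => smul_zero a⟩
    | add p q hp hq =>
      obtain ⟨n, hn⟩ := hp
      obtain ⟨n', hn'⟩ := hq
      exact ⟨n + n', fun a ha => by
        rw [smul_add, hn a (Ideal.pow_le_pow_right (Nat.le_add_right n n') ha),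
          hn' a (Ideal.pow_le_pow_right (Nat.le_add_left n' n) ha), add_zero]⟩
    | single j v =>
      obtain ⟨n, hn⟩ := GrothLib.Matlis.isPowerTorsion_of_hull he v
      exact ⟨n, fun a ha => by rw [Finsupp.smul_single, hn a ha, Finsupp.single_zero]⟩

end GrothLib.Kashiwara
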